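import Cfsg.Agent.LieRecognition.CoxClass

/-!
# S3876, P2: automorphisms of the diagram of a finite irreducible Coxeter group

`diag`: the square of every automorphism is `1`, or there is a node `z` (the branch point) fixed by all of them, and all have sixth
power `1`.
-/

set_option autoImplicit false
set_option linter.unusedSectionVars false

namespace Cfsg.Agent.H417.PC

open Finset Cfsg.Agent.LieRecognition.CoxForm Cfsg.Agent.LieRecognition.CoxExcl Cfsg.Agent.LieRecognition.CoxClass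

variable {B : Type*}

/-- automorphism of the diagram -/
def Aut (M : CoxeterMatrix B) (ρ : Equiv.Perm B) : Prop := ∀ i j, M (ρ i) (ρ j) = M i j

theorem Aut.mul {M : CoxeterMatrix B} {ρ σ : Equiv.Perm B} (h : Aut M ρ) (h' : Aut M σ) : Aut M (ρ * σ) := fun i j => by
  rw [Equiv.Perm.mul_apply, Equiv.Perm.mul_apply, h, h']

theorem Aut.pow {M : CoxeterMatrix B} {ρ : Equiv.Perm B} (h : Aut M ρ) (n : ℕ) : Aut M (ρ ^ n) := by
  induction n with
  | zero => intro i j; simp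
  | succ n ih => rw [pow_succ]; exact ih.mul h

/-- an automorphism which fixes two adjacent nodes fixes the path -/
theorem rigid {M : CoxeterMatrix B} {σ : Equiv.Perm B} (hσ : Aut M σ) {v : ℕ → B} {n : ℕ} (h0 : σ (v 0) = v 0)
    (h1 : 1 ≤ n → σ (v 1) = v 1)
    (hn : ∀ i, 1 ≤ i → i < n → ∀ b, b ≠ v i → M (v i) b ≠ 2 → b = v (i - 1) ∨ b = v (i + 1))
    (hadj : ∀ i, 1 ≤ i → i < n → M (v i) (v (i + 1)) ≠ 2) (hne : ∀ i, 1 ≤ i → i < n → v (i + 1) ≠ v (i - 1))
    (hne' : ∀ i, 1 ≤ i → i < n → v (i + 1) ≠ v i) :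
    ∀ i, i ≤ n → σ (v i) = v i := by
  intro i
  induction i using Nat.strong_induction_on with
  | _ i ih =>
    intro hi
    rcases Nat.lt_or_ge i 2 with h2 | h2
    · interval_cases i
      · exact h0
      · exact h1 hi
    · obtain ⟨j, rfl⟩ : ∃ j, i = j + 1 := ⟨i - 1, by omega⟩
      have e1 := ih j (by omega) (by omega)
      have e2 := ih (j - 1) (by omega) (by omega)
      have h3 : M (v j) (σ (v (j + 1))) ≠ 2 := by
        have := hσ (v j) (v (j + 1))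
        rw [e1] at this
        rw [this]
        exact hadj j (by omega) (by omega)
      have h4 : σ (v (j + 1)) ≠ v j := by
        intro h
        rw [← e1] at h
        exact hne' j (by omega) (by omega) (σ.injective h)
      rcases hn j (by omega) (by omega) _ h4 h3 with h | h
      · exfalso
        rw [← e2] at h
        exact hne j (by omega) (by omega) (σ.injective h)
      · exact h

variable [Fintype B] [DecidableEq B] {M : CoxeterMatrix B}

theorem pth_nb {v : ℕ → B} {n : ℕ} (h : Pth M v (n + 1)) {i j : ℕ} (hi : i ≤ n) (hj : j ≤ n) (hne : v j ≠ v i)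
    (h2 : M (v i) (v j) ≠ 2) : j = i + 1 ∨ i = j + 1 := by
  rcases lt_trichotomy i j with hij | hij | hij
  · left
    by_contra hcon
    exact h2 (h.far M (by omega) (by omega))
  · exact absurd (by rw [hij]) hne
  · right
    by_contra hcon
    apply h2
    rw [M.symmetric]
    exact h.far M (by omega) (by omega)

theorem pth_adj {v : ℕ → B} {n : ℕ} (h : Pth M v (n + 1)) {i : ℕ} (hi : i < n) : M (v i) (v (i + 1)) ≠ 2 := by
  rw [h.next M (by omega)]
  norm_num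

/-! ### paths -/

theorem path_case {v : ℕ → B} {n : ℕ} (h : Pth M v (n + 1)) (hs : ∀ b, ∃ i, i ≤ n ∧ v i = b) {ρ : Equiv.Perm B}
    (hρ : Aut M ρ) : ρ ^ 2 = 1 := by
  -- the end points
  have hend : ∀ b, (∃ a, ∀ c, c ≠ b → M b c ≠ 2 → c = a) → b = v 0 ∨ b = v n := by
    rintro b ⟨a, ha⟩
    obtain ⟨i, hi, rfl⟩ := hs b
    by_contra hcon
    push Not at hcon
    have hi0 : i ≠ 0 := by rintro rfl; exact hcon.1 rfl
    have hin : i ≠ n := by rintro rfl; exact hcon.2 rfl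
    have e1 := ha (v (i + 1)) (h.ne M (by omega) (by omega) (by omega)) (pth_adj h (by omega))
    have e2 := ha (v (i - 1)) (h.ne M (by omega) (by omega) (by omega)) (by
      rw [M.symmetric]
      have := pth_adj h (i := i - 1) (by omega)
      rwa [show i - 1 + 1 = i by omega] at this)
    exact h.ne M (by omega : i + 1 < n + 1) (by omega : i - 1 < n + 1) (by omega) (e1.trans e2.symm)
  have hend0 : ∀ c, c ≠ v 0 → M (v 0) c ≠ 2 → c = v 1 := by
    intro c hc h2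
    obtain ⟨j, hj, rfl⟩ := hs c
    rcases pth_nb h (Nat.zero_le n) hj hc h2 with h' | h'
    · rw [h']
    · omega
  have hendn : ∀ c, c ≠ v n → M (v n) c ≠ 2 → c = v (n - 1) := by
    intro c hc h2
    obtain ⟨j, hj, rfl⟩ := hs c
    rcases pth_nb h le_rfl hj hc h2 with h' | h'
    · omega
    · rw [h', Nat.add_sub_cancel]
  have htr : ∀ b a, (∀ c, c ≠ b → M b c ≠ 2 → c = a) → ρ b = v 0 ∨ ρ b = v n := by
    intro b a hb
    apply hend
    refine ⟨ρ a, fun c hc hc2 => ?_⟩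
    have h1 := hb (ρ.symm c) (by
      intro h'
      apply hc
      rw [← h', Equiv.apply_symm_apply]) (by
      rw [← hρ b (ρ.symm c), Equiv.apply_symm_apply]
      exact hc2)
    rw [← h1, Equiv.apply_symm_apply]
  have hsq : (ρ ^ 2) (v 0) = v 0 := by
    rw [pow_two, Equiv.Perm.mul_apply]
    rcases htr _ _ hend0 with h0 | h0
    · rw [h0, h0]
    · rcases htr _ _ hendn with hn | hn
      · rw [h0, hn]
      · have : v 0 = v n := ρ.injective (h0.trans hn.symm)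
        rw [h0, hn, ← this]
  have hρ2 : Aut M (ρ ^ 2) := hρ.pow 2
  have hfix := rigid hρ2 (v := v) (n := n) hsq (fun h1 => by
      have h2 := hρ2 (v 0) (v 1)
      rw [hsq] at h2
      apply hend0
      · intro h'
        rw [← hsq] at h'
        exact h.ne M (by omega : 1 < n + 1) (by omega : 0 < n + 1) one_ne_zero ((ρ ^ 2).injective h')
      · rw [h2]
        exact pth_adj h (by omega))
    (fun i h1 h2 b hb hb2 => by
      obtain ⟨j, hj, rfl⟩ := hs b
      rcases pth_nb h (by omega) hj hb hb2 with h' | h'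
      · exact Or.inr (by rw [h'])
      · exact Or.inl (by rw [h', Nat.add_sub_cancel]))
    (fun i h1 h2 => pth_adj h h2) (fun i h1 h2 => h.ne M (by omega) (by omega) (by omega))
    (fun i h1 h2 => h.ne M (by omega) (by omega) (by omega))
  ext b
  obtain ⟨i, hi, rfl⟩ := hs b
  rw [hfix i hi]
  rfl

/-! ### one multiple bond -/

theorem tp_nb {x y : ℕ → B} {p q : ℕ} (h : TP M x p y q)
    (hs : ∀ b, (∃ i, i ≤ p ∧ x i = b) ∨ (∃ i, i ≤ q ∧ y i = b)) {i : ℕ} (hi : i ≤ p) {b : B} (hb : b ≠ x i)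
    (h2 : M (x i) b ≠ 2) : (i = 0 ∧ b = y 0) ∨ (1 ≤ i ∧ b = x (i - 1)) ∨ b = x (i + 1) := by
  rcases hs b with ⟨j, hj, rfl⟩ | ⟨j, hj, rfl⟩
  · rcases pth_nb h.1 hi hj hb h2 with h' | h'
    · exact Or.inr (Or.inr (by rw [h']))
    · exact Or.inr (Or.inl ⟨by omega, by rw [h', Nat.add_sub_cancel]⟩)
  · left
    by_contra hcon
    apply h2
    apply h.2.2.2 i j hi hj
    by_contra h3
    push Not at h3
    exact hcon ⟨h3.1, by rw [h3.2]⟩

theorem tp_four {x y : ℕ → B} {p q : ℕ} (h : TP M x p y q)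
    (hs : ∀ b, (∃ i, i ≤ p ∧ x i = b) ∨ (∃ i, i ≤ q ∧ y i = b)) {a b : B} (h4 : 4 ≤ M a b) :
    (a = x 0 ∧ b = y 0) ∨ (a = y 0 ∧ b = x 0) := by
  have hP : ∀ {v : ℕ → B} {n : ℕ}, Pth M v (n + 1) → ∀ i j, i ≤ n → j ≤ n → ¬ 4 ≤ M (v i) (v j) := by
    intro v n hv i j hi hj hh
    rcases lt_trichotomy i j with hij | hij | hij
    · rw [hv i j hij (by omega)] at hh
      split_ifs at hh <;> omega
    · rw [hij, M.diagonal] at hh
      omega
    · rw [M.symmetric, hv j i hij (by omega)] at hh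
      split_ifs at hh <;> omega
  rcases hs a with ⟨i, hi, rfl⟩ | ⟨i, hi, rfl⟩
  · rcases hs b with ⟨j, hj, rfl⟩ | ⟨j, hj, rfl⟩
    · exact absurd h4 (hP h.1 i j hi hj)
    · left
      by_contra hcon
      have := h.2.2.2 i j hi hj (by
        by_contra h3
        push Not at h3
        exact hcon ⟨by rw [h3.1], by rw [h3.2]⟩)
      omega
  · rcases hs b with ⟨j, hj, rfl⟩ | ⟨j, hj, rfl⟩
    · right
      by_contra hcon
      have := h.2.2.2 j i hj hi (by
        by_contra h3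
        push Not at h3
        exact hcon ⟨by rw [h3.2], by rw [h3.1]⟩)
      rw [M.symmetric] at this
      omega
    · exact absurd h4 (hP h.2.1 i j hi hj)

theorem tp_ne {x y : ℕ → B} {p q : ℕ} (h : TP M x p y q) {i j : ℕ} (hi : i ≤ p) (hj : j ≤ q) : x i ≠ y j := by
  by_cases hij : i ≠ 0 ∨ j ≠ 0
  · exact ne_of_two M (h.2.2.2 i j hi hj hij)
  · push Not at hij
    rw [hij.1, hij.2]
    exact ne_of_ge M (by have := h.2.2.1; omega)

/-- an automorphism fixing the ends of the multiple bond fixes one side -/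
theorem bond_fix {x y : ℕ → B} {p q : ℕ} (h : TP M x p y q)
    (hs : ∀ b, (∃ i, i ≤ p ∧ x i = b) ∨ (∃ i, i ≤ q ∧ y i = b)) {σ : Equiv.Perm B} (hσ : Aut M σ)
    (hx : σ (x 0) = x 0) (hy : σ (y 0) = y 0) : ∀ i, i ≤ p → σ (x i) = x i := by
  have key := rigid hσ (v := fun i => if i = 0 then y 0 else x (i - 1)) (n := p + 1) (by simpa using hy)
    (fun _ => by simpa using hx)
    (fun i h1 h2 b hb hb2 => by
      simp only [show i ≠ 0 by omega, if_false, show i + 1 ≠ 0 by omega, Nat.add_sub_cancel] at hb hb2 ⊢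
      rcases tp_nb h hs (by omega) hb hb2 with h' | h' | h'
      · left
        rw [if_pos h'.1]
        exact h'.2
      · left
        rw [if_neg (by omega)]
        exact h'.2
      · right
        rw [h', show i - 1 + 1 = i by omega])
    (fun i h1 h2 => by
      simp only [show i ≠ 0 by omega, if_false, show i + 1 ≠ 0 by omega, Nat.add_sub_cancel]
      have := pth_adj h.1 (i := i - 1) (by omega)
      rwa [show i - 1 + 1 = i by omega] at this)
    (fun i h1 h2 => by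
      simp only [show i + 1 ≠ 0 by omega, if_false, Nat.add_sub_cancel]
      by_cases hi : i - 1 = 0
      · rw [if_pos hi]
        exact tp_ne h (by omega) (by omega)
      · rw [if_neg hi]
        exact h.1.ne M (by omega) (by omega) (by omega))
    (fun i h1 h2 => by
      simp only [show i ≠ 0 by omega, if_false, show i + 1 ≠ 0 by omega, Nat.add_sub_cancel]
      exact h.1.ne M (by omega) (by omega) (by omega))
  intro i hi
  have := key (i + 1) (by omega)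
  simpa using this

theorem bond_case' {x y : ℕ → B} {p q : ℕ} (h : TP M x p y q)
    (hs : ∀ b, (∃ i, i ≤ p ∧ x i = b) ∨ (∃ i, i ≤ q ∧ y i = b)) {ρ : Equiv.Perm B} (hρ : Aut M ρ) : ρ ^ 2 = 1 := by
  have h4 : 4 ≤ M (ρ (x 0)) (ρ (y 0)) := by
    rw [hρ]
    exact h.2.2.1
  have hxy : (ρ ^ 2) (x 0) = x 0 ∧ (ρ ^ 2) (y 0) = y 0 := by
    rw [pow_two, Equiv.Perm.mul_apply, Equiv.Perm.mul_apply]
    rcases tp_four h hs h4 with ⟨e1, e2⟩ | ⟨e1, e2⟩
    · exact ⟨by rw [e1, e1], by rw [e2, e2]⟩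
    · exact ⟨by rw [e1, e2], by rw [e2, e1]⟩
  have f1 := bond_fix h hs (hρ.pow 2) hxy.1 hxy.2
  have f2 := bond_fix (h.symm M) (fun b => (hs b).symm) (hρ.pow 2) hxy.2 hxy.1
  ext b
  rcases hs b with ⟨i, hi, rfl⟩ | ⟨i, hi, rfl⟩
  · rw [f1 i hi]; rfl
  · rw [f2 i hi]; rfl

/-! ### stars -/

theorem st_nb {x y z : ℕ → B} {p q r : ℕ} (h : ST M x p y q z r)
    (hs : ∀ b, (∃ i, i ≤ p ∧ x i = b) ∨ (∃ i, i ≤ q ∧ y i = b) ∨ (∃ i, i ≤ r ∧ z i = b)) {i : ℕ} (h1 : 1 ≤ i)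
    (hi : i ≤ p) {b : B} (hb : b ≠ x i) (h2 : M (x i) b ≠ 2) : b = x (i - 1) ∨ b = x (i + 1) := by
  have hx : ∀ j, j ≤ p → b = x j → b = x (i - 1) ∨ b = x (i + 1) := by
    rintro j hj rfl
    rcases pth_nb h.px hi hj hb h2 with h' | h'
    · exact Or.inr (by rw [h'])
    · exact Or.inl (by rw [h', Nat.add_sub_cancel])
  rcases hs b with ⟨j, hj, rfl⟩ | ⟨j, hj, rfl⟩ | ⟨j, hj, rfl⟩
  · exact hx j hj rfl
  · rcases Nat.eq_zero_or_pos j with rfl | hj0
    · exact hx 0 (Nat.zero_le _) h.xy0.symm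
    · exact absurd (h.xy i j h1 hi hj0 hj) h2
  · rcases Nat.eq_zero_or_pos j with rfl | hj0
    · exact hx 0 (Nat.zero_le _) h.xz0.symm
    · exact absurd (h.xz i j h1 hi hj0 hj) h2

/-- at most two neighbours -/
theorem st_two {x y z : ℕ → B} {p q r : ℕ} (h : ST M x p y q z r)
    (hs : ∀ b, (∃ i, i ≤ p ∧ x i = b) ∨ (∃ i, i ≤ q ∧ y i = b) ∨ (∃ i, i ≤ r ∧ z i = b)) {i : ℕ} (h1 : 1 ≤ i)
    (hi : i ≤ p) {a b c : B} (ha : a ≠ x i) (ha2 : M (x i) a ≠ 2) (hb : b ≠ x i) (hb2 : M (x i) b ≠ 2)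
    (hc : c ≠ x i) (hc2 : M (x i) c ≠ 2) (hab : a ≠ b) (hac : a ≠ c) (hbc : b ≠ c) : False := by
  rcases st_nb h hs h1 hi ha ha2 with e1 | e1 <;> rcases st_nb h hs h1 hi hb hb2 with e2 | e2
  · exact hab (e1.trans e2.symm)
  · rcases st_nb h hs h1 hi hc hc2 with e3 | e3
    · exact hac (e1.trans e3.symm)
    · exact hbc (e2.trans e3.symm)
  · rcases st_nb h hs h1 hi hc hc2 with e3 | e3
    · exact hbc (e2.trans e3.symm)
    · exact hac (e1.trans e3.symm)
  · exact hab (e1.trans e2.symm)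

/-- a node with three neighbours is the centre -/
theorem st_centre {x y z : ℕ → B} {p q r : ℕ} (h : ST M x p y q z r)
    (hs : ∀ b, (∃ i, i ≤ p ∧ x i = b) ∨ (∃ i, i ≤ q ∧ y i = b) ∨ (∃ i, i ≤ r ∧ z i = b)) {d a b c : B}
    (ha : a ≠ d) (ha2 : M d a ≠ 2) (hb : b ≠ d) (hb2 : M d b ≠ 2)
    (hc : c ≠ d) (hc2 : M d c ≠ 2) (hab : a ≠ b) (hac : a ≠ c) (hbc : b ≠ c) : d = x 0 := by
  rcases hs d with ⟨j, hj, rfl⟩ | ⟨j, hj, rfl⟩ | ⟨j, hj, rfl⟩
  · rcases Nat.eq_zero_or_pos j with rfl | hj0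
    · rfl
    · exact absurd (st_two h hs hj0 hj ha ha2 hb hb2 hc hc2 hab hac hbc) not_false
  · rcases Nat.eq_zero_or_pos j with rfl | hj0
    · exact h.xy0.symm
    · exact absurd (st_two (h.swap M) (fun b => or_left_comm.1 (hs b)) hj0 hj ha ha2 hb hb2 hc hc2 hab hac hbc) not_false
  · rcases Nat.eq_zero_or_pos j with rfl | hj0
    · exact h.xz0.symm
    · exact absurd (st_two (h.rot M) (fun b => or_rotate.2 (hs b)) hj0 hj ha ha2 hb hb2 hc hc2 hab hac hbc) not_false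

/-- the neighbours of the centre -/
theorem st_nb0 {x y z : ℕ → B} {p q r : ℕ} (h : ST M x p y q z r)
    (hs : ∀ b, (∃ i, i ≤ p ∧ x i = b) ∨ (∃ i, i ≤ q ∧ y i = b) ∨ (∃ i, i ≤ r ∧ z i = b)) {b : B} (hb : b ≠ x 0)
    (h2 : M (x 0) b ≠ 2) : b = x 1 ∨ b = y 1 ∨ b = z 1 := by
  rcases hs b with ⟨j, hj, rfl⟩ | ⟨j, hj, rfl⟩ | ⟨j, hj, rfl⟩
  · rcases pth_nb h.px (Nat.zero_le _) hj hb h2 with h' | h'
    · exact Or.inl (by rw [h'])
    · omega
  · rw [h.xy0] at hb h2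
    rcases pth_nb h.py (Nat.zero_le _) hj hb h2 with h' | h'
    · exact Or.inr (Or.inl (by rw [h']))
    · omega
  · rw [h.xz0] at hb h2
    rcases pth_nb h.pz (Nat.zero_le _) hj hb h2 with h' | h'
    · exact Or.inr (Or.inr (by rw [h']))
    · omega

theorem arm_fix {x y z : ℕ → B} {p q r : ℕ} (h : ST M x p y q z r)
    (hs : ∀ b, (∃ i, i ≤ p ∧ x i = b) ∨ (∃ i, i ≤ q ∧ y i = b) ∨ (∃ i, i ≤ r ∧ z i = b)) {σ : Equiv.Perm B}
    (hσ : Aut M σ) (h0 : σ (x 0) = x 0) (h1 : σ (x 1) = x 1) : ∀ i, i ≤ p → σ (x i) = x i :=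
  rigid hσ h0 (fun _ => h1) (fun _ h1 h2 _ hb hb2 => st_nb h hs h1 h2.le hb hb2) (fun _ _ h2 => pth_adj h.px h2)
    (fun _ _ _ => h.px.ne M (by omega) (by omega) (by omega)) (fun _ _ _ => h.px.ne M (by omega) (by omega) (by omega))

theorem star_case' {x y z : ℕ → B} {p q r : ℕ} (h : ST M x p y q z r)
    (hs : ∀ b, (∃ i, i ≤ p ∧ x i = b) ∨ (∃ i, i ≤ q ∧ y i = b) ∨ (∃ i, i ≤ r ∧ z i = b)) {ρ : Equiv.Perm B}
    (hρ : Aut M ρ) : ρ (x 0) = x 0 ∧ ρ ^ 6 = 1 := by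
  have hp := h.hp
  have hq := h.hq
  have hr := h.hr
  have nx : x 1 ≠ x 0 := h.px.ne M (by omega) (by omega) one_ne_zero
  have ny : y 1 ≠ x 0 := by rw [h.xy0]; exact h.py.ne M (by omega) (by omega) one_ne_zero
  have nz : z 1 ≠ x 0 := by rw [h.xz0]; exact h.pz.ne M (by omega) (by omega) one_ne_zero
  have ax : M (x 0) (x 1) ≠ 2 := pth_adj h.px (by omega)
  have ay : M (x 0) (y 1) ≠ 2 := by rw [h.xy0]; exact pth_adj h.py (by omega)
  have az : M (x 0) (z 1) ≠ 2 := by rw [h.xz0]; exact pth_adj h.pz (by omega)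
  have nxy : x 1 ≠ y 1 := ne_of_two M (h.xy 1 1 le_rfl hp le_rfl hq)
  have nxz : x 1 ≠ z 1 := ne_of_two M (h.xz 1 1 le_rfl hp le_rfl hr)
  have nyz : y 1 ≠ z 1 := ne_of_two M (h.yz 1 1 le_rfl hq le_rfl hr)
  have h0 : ρ (x 0) = x 0 := by
    refine st_centre h hs (a := ρ (x 1)) (b := ρ (y 1)) (c := ρ (z 1)) (ρ.injective.ne nx) ?_ (ρ.injective.ne ny) ?_
      (ρ.injective.ne nz) ?_ (ρ.injective.ne nxy) (ρ.injective.ne nxz) (ρ.injective.ne nyz)
    · rw [hρ]; exact ax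
    · rw [hρ]; exact ay
    · rw [hρ]; exact az
  refine ⟨h0, ?_⟩
  -- the three neighbours
  let N : Finset B := {x 1, y 1, z 1}
  have hN : ∀ b, b ∈ N ↔ b = x 1 ∨ b = y 1 ∨ b = z 1 := fun b => by simp [N]
  have hNc : N.card = 3 := by
    rw [Finset.card_eq_three]
    exact ⟨_, _, _, nxy, nxz, nyz, rfl⟩
  have hN' : ∀ b, b ∈ N ↔ b ≠ x 0 ∧ M (x 0) b ≠ 2 := by
    intro b
    rw [hN]
    constructor
    · rintro (rfl | rfl | rfl)
      · exact ⟨nx, ax⟩
      · exact ⟨ny, ay⟩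
      · exact ⟨nz, az⟩
    · rintro ⟨h1, h2⟩
      exact st_nb0 h hs h1 h2
  have hinv : ∀ b, ρ b ∈ N ↔ b ∈ N := by
    intro b
    rw [hN', hN']
    have e1 : ρ b ≠ x 0 ↔ b ≠ x 0 := by
      conv_lhs => rw [← h0]
      exact ρ.injective.ne_iff
    have e2 : M (x 0) (ρ b) = M (x 0) b := by
      have := hρ (x 0) b
      rwa [h0] at this
    rw [e1, e2]
  let τ : Equiv.Perm {b // b ∈ N} := ρ.subtypePerm hinv
  have hτ : τ ^ 6 = 1 := by
    have h1 := pow_card_eq_one (x := τ)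
    rw [Fintype.card_perm, Fintype.card_coe, hNc] at h1
    exact h1
  have hpow : ∀ b ∈ N, (ρ ^ 6) b = b := by
    intro b hb
    have h1 : (τ ^ 6) ⟨b, hb⟩ = ⟨b, hb⟩ := by rw [hτ]; rfl
    have h2 := congrArg Subtype.val h1
    rw [Equiv.Perm.subtypePerm_pow] at h2
    simpa using h2
  have h06 : (ρ ^ 6) (x 0) = x 0 := by
    simp only [pow_succ, pow_zero, one_mul, Equiv.Perm.mul_apply, h0]
  have f1 := arm_fix h hs (hρ.pow 6) h06 (hpow _ ((hN _).2 (Or.inl rfl)))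
  have f2 := arm_fix (h.swap M) (fun b => or_left_comm.1 (hs b)) (hρ.pow 6) (by rw [← h.xy0]; exact h06)
    (hpow _ ((hN _).2 (Or.inr (Or.inl rfl))))
  have f3 := arm_fix (h.rot M) (fun b => or_rotate.2 (hs b)) (hρ.pow 6) (by rw [← h.xz0]; exact h06)
    (hpow _ ((hN _).2 (Or.inr (Or.inr rfl))))
  ext b
  rcases hs b with ⟨i, hi, rfl⟩ | ⟨i, hi, rfl⟩ | ⟨i, hi, rfl⟩
  · rw [f1 i hi]; rfl
  · rw [f2 i hi]; rfl
  · rw [f3 i hi]; rfl

/-- **P2** -/
theorem diag {I : Type*} [Finite I] {M : CoxeterMatrix I} (hfin : Finite M.Group)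
    (hconn : ∀ J : Set I, J.Nonempty → (∀ i ∈ J, ∀ j ∉ J, M i j = 2) → J = Set.univ) :
    (∀ ρ : Equiv.Perm I, (∀ i j, M (ρ i) (ρ j) = M i j) → ρ ^ 2 = 1) ∨
      ∃ z w : I, M z w = 3 ∧ ∀ ρ : Equiv.Perm I, (∀ i j, M (ρ i) (ρ j) = M i j) → ρ z = z ∧ ρ ^ 6 = 1 := by
  classical
  have := Fintype.ofFinite I
  rcases isEmpty_or_nonempty I with hI | hI
  · left
    intro ρ _
    ext i
    exact isEmptyElim i
  have hconn' : ∀ J : Set I, J.Nonempty → Jᶜ.Nonempty → ∃ a ∈ J, ∃ b ∈ Jᶜ, M a b ≠ 2 := by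
    intro J hJ hJc
    by_contra hcon
    push Not at hcon
    have h1 := hconn J hJ hcon
    rw [h1] at hJc
    simp at hJc
  have hM : ∀ a b : I, a ≠ b → 2 ≤ M a b := fun a b hab => by
    have h1 := M.off_diagonal a b hab
    have h0 := ne_zero_of_finite M.toCoxeterSystem a b
    omega
  have hpos : ∀ x : I → ℝ, x ≠ 0 → 0 < q M x := fun x hx => q_pos M.toCoxeterSystem hconn' x hx
  have hc : Conn M (Finset.univ : Finset I) := by
    intro J _ hJ hJc
    obtain ⟨a, ha, b, hb, hab⟩ := hconn' (J : Set I) (by simpa using hJ) (by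
      obtain ⟨b, hb⟩ := hJc
      exact ⟨b, by simpa using hb⟩)
    exact ⟨a, by simpa using ha, b, by simpa using hb, hab⟩
  have hcard : (Finset.univ : Finset I).card = Fintype.card I := rfl
  have hpos' : 0 < Fintype.card I := Fintype.card_pos
  rcases shapes M hpos hM (Fintype.card I - 1) Finset.univ (by omega) hc with h | h | h
  · obtain ⟨v, n, hv, hS⟩ := h
    exact Or.inl fun ρ hρ => path_case hv (fun b => (hS b).1 (Finset.mem_univ b)) hρ
  · obtain ⟨x, p, y, q, h, hS⟩ := h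
    exact Or.inl fun ρ hρ => bond_case' h (fun b => (hS b).1 (Finset.mem_univ b)) hρ
  · obtain ⟨x, p, y, q, z, r, h, hS⟩ := h
    refine Or.inr ⟨x 0, x 1, h.px.next M (by have := h.hp; omega), fun ρ hρ => ?_⟩
    exact star_case' h (fun b => (hS b).1 (Finset.mem_univ b)) hρ

end Cfsg.Agent.H417.PC
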